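import Mathlib
import Cfsg.Agent.Spor.Th.RhoC0
import Cfsg.Agent.Spor.Th.RhoC1
import Cfsg.Agent.Spor.Comp.Model

/-! Generated by tools/th: the representation of degree 248 -/

set_option autoImplicit false
set_option maxRecDepth 100000
set_option linter.unusedVariables false
set_option exponentiation.threshold 100000

namespace Cfsg.Agent.Spor.MTh

open Cfsg.Agent.Spor Cfsg.Agent.Spor.DC Cfsg.Spor

open Cfsg.Agent.Spor.NM Cfsg.Agent.Spor.NM.F3x248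

theorem lets11 : MM.Lets gM 11 := Model.lets_of_inv invM

theorem hinvM : ∀ x < 11, MM.g gM x * MM.g gM (inv0 x) = 1 := fun x hx => by
  rw [Model.g, Model.g, (Model.invChk_sound (M := MM) ((allLt_iff _ _).1 invM x hx)).2.2, mul_inv_cancel]

theorem defM : ∀ x < 16, MM.V (gM x) ∧ evalW (MM.g gM) (wsM.get x) = MM.g gM x := fun x hx => by
  by_cases h : x < 11
  · refine ⟨lets11 x h, ?_⟩
    rw [show wsM.get x = [x] by interval_cases x <;> rfl, evalW_cons, evalW_nil, mul_one]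
  · have h1 := (List.forall_mem_append.2 ⟨(allL_iff _ _).1 defM0, (allL_iff _ _).1 defM1⟩) x
      (by simp only [List.mem_append, List.mem_cons, List.not_mem_nil]; omega)
    rw [band_iff, nbeq_iff] at h1
    rw [Model.g, h1.2]
    exact ⟨(lets11.evN h1.1).1, (lets11.evN h1.1).2.symm⟩

theorem lets16 : MM.Lets gM 16 := fun x hx => (defM x hx).1

theorem evalW_wsM {v : List ℕ} (h : lettersLt 16 v = true) :
    evalW (MM.g gM) (expandW wsM.get v) = evalW (MM.g gM) v := by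
  rw [evalW_expandW]
  exact evalW_congr fun x hx => (defM x ((lettersLt_iff _ _).1 h x hx)).2

/-- The relators in the sixteen matrices. -/
def RS : List (List ℕ) := [[0, 2, 6, 10, 5, 9, 6, 10, 5, 9, 6, 10, 5, 9, 6, 10, 5, 9]] ++ [[12, 12, 12, 3, 6, 6, 9, 13, 5, 5, 5, 13, 6, 3, 2, 3, 2, 0]] ++ [[15, 14, 3, 9, 3, 1, 0, 2, 1, 2, 4, 15, 14, 4, 10], [7, 7, 7]] ++ [[4, 6, 6, 10, 5, 5, 4, 6, 6, 9, 5, 5], [0, 1, 0, 1, 0, 1]] ++ [[3, 4, 10, 3, 9, 3, 4, 10, 3, 9], [11, 11, 11, 11, 11, 11, 11, 11]] ++ [[0, 3, 2, 3, 2, 3, 2, 3, 2], [4, 6, 4, 6, 6, 4, 5, 5, 5]] ++ [[10, 14, 9, 1, 0, 2, 1, 4], [0, 2, 6, 10, 6, 10, 6, 10]] ++ [[5, 5, 5, 5, 5, 5, 5], [1, 2, 1, 2, 1, 2], [8, 5, 7, 6, 6]] ++ [[3, 4, 3, 4, 3, 4], [0, 4, 0, 4], [1, 3, 1, 3], [1, 4, 1, 4]] ++ [[2, 4, 2, 4], [6, 0, 5, 0], [6, 1, 5, 1], [6, 2, 5, 2]] ++ [[5, 3, 5, 3], [8, 0, 7, 0], [8, 1, 7, 1], [8, 2, 7, 2]] ++ [[8, 3, 7, 3], [8, 4, 7, 4], [9,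 9, 2, 0], [10, 0, 9, 0]] ++ [[10, 2, 9, 2], [10, 4, 9, 4], [10, 7, 9, 7]]

theorem relS : ∀ w ∈ RS, band (lettersLt 16 w) (Nat.beq (evN mul one gM w) one) = true :=
  List.forall_mem_append.2 ⟨List.forall_mem_append.2 ⟨List.forall_mem_append.2 ⟨List.forall_mem_append.2 ⟨List.forall_mem_append.2 ⟨List.forall_mem_append.2 ⟨List.forall_mem_append.2 ⟨List.forall_mem_append.2 ⟨List.forall_mem_append.2 ⟨List.forall_mem_append.2 ⟨List.forall_mem_append.2 ⟨List.forall_mem_append.2 ⟨(allL_iff _ _).1 relM0, (allL_iff _ _).1 relM1⟩, (allL_iff _ _).1 relM2⟩, (allL_iff _ _).1 relM3⟩, (allL_iff _ _).1 relM4⟩, (allL_iff _ _).1 relM5⟩, (allL_iff _ _).1 relM6⟩, (allL_iff _ _).1 relM7⟩, (allL_iff _ _).1 relM8⟩, (allL_iff _ _).1 relM9⟩, (allL_iff _ _).1 relM10⟩, (allL_iff _ _).1 relM11⟩, (allL_iff _ _).1 relM12⟩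

theorem relM : ∀ i, evalW (MM.g gM) ((LT.node RH RZ).get i) = 1 :=
  hrels_of_relTest (W := RS.map (expandW wsM.get)) hinvM (fun w hw => by
    obtain ⟨v, hv, rfl⟩ := List.mem_map.1 hw
    rw [evalW_wsM ((band_iff _ _).1 (relS v hv)).1, lets16.eq_one (relS v hv)]) (by decide +kernel)

theorem exRho : ∃ φ : Th →* GL (Fin 248) (ZMod 3), ∀ x < 11, φ (gG x) = MM.g gM x := exists_hom relM

/-- The representation of degree 248. -/
noncomputable def rho : Th →* GL (Fin 248) (ZMod 3) := exRho.choose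

theorem rho_gG : ∀ x < 11, rho (gG x) = MM.g gM x := exRho.choose_spec

theorem rho_evalW {w : List ℕ} (hw : lettersLt 11 w = true) : rho (evalW gG w) = evalW (MM.g gM) w := by
  rw [map_evalW]
  exact evalW_congr fun x hx => rho_gG x ((lettersLt_iff _ _).1 hw x hx)

/-- The first `N` rows of the matrix of a word. -/
theorem rows_rho (N : ℕ) (hN : N ≤ 248) {w : List ℕ} (hw : lettersLt 11 w = true) :
    Rows N (evR N gM w one) (rho (evalW gG w) : GL (Fin 248) (ZMod 3)) := by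
  simpa [rho_evalW hw] using (rows_one N hN).evR lets11 hw

end Cfsg.Agent.Spor.MTh
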