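import Mathlib
import Cfsg.Agent.Spor.Th.Rho
import Cfsg.Agent.Spor.Th.Tab
import Cfsg.Agent.Spor.Th.Fct

/-! Generated by tools/th: comparisons of matrices -/

set_option autoImplicit false
set_option maxRecDepth 100000
set_option linter.unusedVariables false
set_option exponentiation.threshold 100000

namespace Cfsg.Agent.Spor.MTh

open Cfsg.Agent.Spor Cfsg.Agent.Spor.DC Cfsg.Spor

set_option Elab.async false

open Cfsg.Agent.Spor.NM Cfsg.Agent.Spor.NM.F3x248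

/-- The two words have the same first 52 rows. -/
noncomputable def cmpR (v w : List ℕ) : Bool :=
  band (band (lettersLt 11 v) (lettersLt 9 w)) (Nat.beq (evR 52 gM v one) (evR 52 gM w one))

/-- The first row has a nonzero entry outside the first 52 columns. -/
noncomputable def outR (w : List ℕ) : Bool :=
  band (lettersLt 11 w) (force (evR 1 gM w one) fun a => anyLt 196 fun k => !Nat.beq (fld 10 a (52 + k)) 0)

/-- The first 52 rows vanish outside the first 52 columns. -/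
noncomputable def blkR (a : ℕ) : Bool := allLt 52 fun i => Nat.beq (Nat.shiftRight (fld 2480 a i) 520) 0

theorem blkc : allLt 9 (fun x => force (gM x) blkR) = true := by decide +kernel

theorem cmp0 : cmpR [9, 3, 2, 3, 4, 3, 2, 3, 9, 3, 2, 3, 4, 3, 2, 3] [0, 0] = true := by decide +kernel

theorem cmp1 : cmpR [9, 3, 2, 3, 4, 3, 2, 3, 0, 9, 3, 2, 3, 4, 3, 2, 3] [0] = true := by decide +kernel

theorem cmp2 : cmpR [9, 3, 2, 3, 4, 3, 2, 3, 2, 9, 3, 2, 3, 4, 3, 2, 3] [2] = true := by decide +kernel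

theorem cmp3 : cmpR [9, 3, 2, 3, 4, 3, 2, 3, 4, 9, 3, 2, 3, 4, 3, 2, 3] [4, 0] = true := by decide +kernel

theorem cmp4 : cmpR [9, 3, 2, 3, 4, 3, 2, 3, 8, 9, 3, 2, 3, 4, 3, 2, 3] [7] = true := by decide +kernel

theorem cmp5 : cmpR [9, 3, 2, 3, 4, 3, 2, 3, 3, 2, 3, 9, 3, 2, 3, 4, 3, 2, 3] [1, 0, 2, 1, 4, 3, 2, 3, 4, 3, 2, 3, 1, 0, 2, 1, 3, 2, 3, 4] = true := by decide +kernel

theorem cmp6 : cmpR [9, 3, 2, 3, 4, 3, 2, 3, 6, 4, 5, 9, 3, 2, 3, 4, 3, 2, 3] [8, 3, 2, 3, 4, 3, 2, 3, 6, 4, 5, 3, 2, 3, 4, 3, 2, 3, 7] = true := by decide +kernel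

theorem cmp7 : cmpR [9, 3, 2, 3, 4, 3, 2, 3, 1, 0, 2, 1, 9, 3, 2, 3, 4, 3, 2, 3] [3, 2, 3, 4, 3, 2, 3, 1, 0, 2, 1, 4, 3, 2, 3, 4, 3, 2, 3] = true := by decide +kernel

theorem cmp8 : cmpR [9, 3, 2, 3, 4, 3, 2, 3, 5, 9, 3, 2, 3, 4, 3, 2, 3, 5, 9, 3, 2, 3, 4, 3, 2, 3] [4, 3, 2, 3, 6, 4, 5, 3, 2, 3, 4, 3, 2, 3, 6, 4, 5, 3, 2, 3, 6] = true := by decide +kernel

theorem cmp9 : cmpR [9, 3, 2, 3, 4, 3, 2, 3, 6, 9, 3, 2, 3, 4, 3, 2, 3, 6, 9, 3, 2, 3, 4, 3, 2, 3] [4, 8, 3, 2, 3, 6, 4, 5, 3, 2, 3, 4, 3, 2, 3, 6, 4, 5, 8, 8, 3, 2, 3, 5] = true := by decide +kernel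

theorem cmp10 : cmpR [9, 3, 2, 3, 4, 3, 2, 3, 3, 6, 4, 6, 4, 9, 3, 2, 3, 4, 3, 2, 3, 5, 3, 9, 3, 2, 3, 4, 3, 2, 3] [6, 4, 5, 8, 3, 2, 3, 6, 4, 5, 3, 2, 3, 4, 6, 4, 5, 8, 6, 4, 5, 3, 2, 3, 6, 4, 5, 3, 2, 3, 4, 3, 6, 4, 6, 4] = true := by decide +kernel

theorem out1 : outR (Yw.get 1) = true := by decide +kernel

theorem out2 : outR (Yw.get 2) = true := by decide +kernel

theorem out3 : outR (Yw.get 3) = true := by decide +kernel

theorem out4 : outR (Yw.get 4) = true := by decide +kernel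

theorem out5 : outR (Yw.get 5) = true := by decide +kernel

theorem out6 : outR (Yw.get 6) = true := by decide +kernel

theorem out7 : outR (Yw.get 7) = true := by decide +kernel

theorem out8 : outR (Yw.get 8) = true := by decide +kernel

theorem out9 : outR (Yw.get 9) = true := by decide +kernel

theorem out10 : outR (Yw.get 10) = true := by decide +kernel

theorem tot0 : Nat.beq (M.tot T (nat_lit 345) F (nat_lit 5082) (nat_lit 7) (nat_lit 9) (nat_lit 273) (nat_lit 0)) (nat_lit 1127153664) = true := by decide +kernel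

theorem lab1 : allRange 0 17199 (fun q => bor (!Nat.beq (M.lab T 345 F 5082 7 1 q) 0) (Nat.beq q 0)) = true := by
  decide +kernel

end Cfsg.Agent.Spor.MTh
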