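import Mathlib
import Cfsg.Agent.Spor.Th.RelC
import Cfsg.Agent.Spor.Th.Cnt

/-! Generated by tools/th: checks for the centraliser of an involution -/

set_option autoImplicit false
set_option maxRecDepth 100000
set_option linter.unusedVariables false
set_option exponentiation.threshold 100000

namespace Cfsg.Agent.Spor.MTh

open Cfsg.Agent.Spor Cfsg.Agent.Spor.DC Cfsg.Spor

set_option Elab.async false

open Cfsg.Agent.Spor.NM Cfsg.Agent.Spor.NM.F3x248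

/-- A symplectic basis of the extraspecial group, and its central involution. -/
noncomputable def qw : LT :=
(.node (.node (.node (.node (.leaf [nat_lit 2])
 (.leaf [nat_lit 0])
) (.leaf [nat_lit 4,nat_lit 5,nat_lit 4,nat_lit 3,nat_lit 2,nat_lit 3,nat_lit 4,nat_lit 6,nat_lit 3,nat_lit 2,nat_lit 3,nat_lit 4])
) (.node (.leaf [nat_lit 5,nat_lit 4,nat_lit 3,nat_lit 2,nat_lit 3,nat_lit 4,nat_lit 6,nat_lit 3,nat_lit 2,nat_lit 3,nat_lit 2])
 (.leaf [nat_lit 8,nat_lit 5,nat_lit 4,nat_lit 6,nat_lit 3,nat_lit 2,nat_lit 3,nat_lit 4,nat_lit 5,nat_lit 3,nat_lit 2,nat_lit 3,nat_lit 4,nat_lit 6,nat_lit 7,nat_lit 4])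
)) (.node (.node (.leaf [nat_lit 3,nat_lit 2,nat_lit 3])
 (.leaf [nat_lit 4,nat_lit 6,nat_lit 4,nat_lit 3,nat_lit 2,nat_lit 3,nat_lit 4,nat_lit 5,nat_lit 3,nat_lit 2,nat_lit 3,nat_lit 4])
) (.node (.leaf [nat_lit 6,nat_lit 4,nat_lit 3,nat_lit 2,nat_lit 3,nat_lit 4,nat_lit 5,nat_lit 3,nat_lit 2,nat_lit 3,nat_lit 2])
 (.leaf [nat_lit 6,nat_lit 4,nat_lit 6,nat_lit 3,nat_lit 4,nat_lit 5,nat_lit 5,nat_lit 2,nat_lit 3,nat_lit 4,nat_lit 5,nat_lit 2,nat_lit 3,nat_lit 4,nat_lit 5,nat_lit 2,nat_lit 3,nat_lit 4,nat_lit 5,nat_lit 2,nat_lit 3,nat_lit 2])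
)))
/-- The first rows of the two words differ. -/
noncomputable def neR (v w : List ℕ) : Bool :=
  band (band (lettersLt 11 v) (lettersLt 11 w)) (force (evR 1 gM v one) fun a => force (evR 1 gM w one) fun b =>
    anyLt 248 fun k => !Nat.beq (fld 10 a k) (fld 10 b k))

/-- Words for conjugates in the point stabiliser. -/
noncomputable def cjw : LT :=
(.node (.node (.node (.node (.node (.leaf [])
 (.leaf [nat_lit 75,nat_lit 9])
) (.node (.leaf [nat_lit 106])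
 (.leaf [nat_lit 59,nat_lit 9])
)) (.node (.node (.leaf [nat_lit 99])
 (.leaf [nat_lit 108])
) (.leaf [nat_lit 98])
)) (.node (.node (.node (.leaf [nat_lit 22])
 (.leaf [nat_lit 110,nat_lit 9])
) (.node (.leaf [nat_lit 95])
 (.leaf [nat_lit 98,nat_lit 12])
)) (.node (.node (.leaf [nat_lit 112])
 (.leaf [nat_lit 113])
) (.leaf [nat_lit 20,nat_lit 9])
))) (.node (.node (.node (.node (.leaf [nat_lit 14])
 (.leaf [nat_lit 110])
) (.node (.leaf [nat_lit 109])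
 (.leaf [nat_lit 97,nat_lit 12])
)) (.node (.node (.leaf [nat_lit 12])
 (.leaf [nat_lit 58,nat_lit 9])
) (.leaf [nat_lit 96])
)) (.node (.node (.node (.leaf [nat_lit 9])
 (.leaf [nat_lit 111])
) (.node (.leaf [nat_lit 97])
 (.leaf [nat_lit 96,nat_lit 12])
)) (.node (.node (.leaf [nat_lit 107])
 (.leaf [nat_lit 109,nat_lit 9])
) (.leaf [nat_lit 99,nat_lit 12])
))))
/-- The images of two base points under a conjugate. -/
noncomputable def cjF (i : ℕ) : ℕ :=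
  forceL (conjW inv (cjw.get i) [269]) fun w => Nat.add (Nat.mul (traceP T w 4) 2457) (traceP T w 79)

theorem fxc1 : allRange 0 2457 (fun p => bor (!Nat.beq (traceP T [269] p) p) (allLt 8 fun i =>
    force (T (Nat.add 9 i) p) fun q => Nat.beq (traceP T [269] q) q)) = true := by decide +kernel

theorem fxc2 : allRange 0 2457 (fun p => bor (!Nat.beq (traceP T [269] p) p) (bor (Nat.beq p 0)
    (!allL [0, 2, 5, 9, 10, 17, 18, 19, 20, 21, 35, 57, 58, 85, 93, 94, 95, 96, 150, 257, 258, 431, 432, 433, 434] fun q => bor (!band (blt q 2457) (Nat.beq (traceP T [269] q) q))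
      (force (traceP T (dn T (E 0) 0 345 p) q) fun r => Nat.beq (traceP T [269] r) r)))) = true := by decide +kernel

theorem cjc1 : allLt 28 (fun i => allL (cjw.get i) fun x => band (Nat.ble 9 x) (blt x 116)) = true := by decide +kernel

theorem cjc2 : allLt 27 (fun i => blt (cjF i) (cjF (i + 1))) = true := by decide +kernel

/-- The elements of a point stabiliser. -/
noncomputable def sw1 : LT :=
(.node (.node (.node (.node (.node (.leaf [])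
 (.leaf [nat_lit 94])
) (.leaf [nat_lit 85])
) (.node (.leaf [nat_lit 84])
 (.leaf [nat_lit 91])
)) (.node (.node (.leaf [nat_lit 78])
 (.leaf [nat_lit 88])
) (.node (.leaf [nat_lit 82])
 (.leaf [nat_lit 89])
))) (.node (.node (.node (.node (.leaf [nat_lit 79])
 (.leaf [nat_lit 92])
) (.leaf [nat_lit 86])
) (.node (.leaf [nat_lit 83])
 (.leaf [nat_lit 87])
)) (.node (.node (.leaf [nat_lit 80])
 (.leaf [nat_lit 93])
) (.node (.leaf [nat_lit 81])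
 (.leaf [nat_lit 90])
))))
theorem lst1 : allRange 0 2457 (listed T (E 11) 78 95 79 sw1 18) = true := by decide +kernel

/-- The elements of a point stabiliser. -/
noncomputable def sw2 : LT :=
(.node (.node (.node (.leaf [])
 (.leaf [nat_lit 215])
) (.leaf [nat_lit 211])
) (.node (.node (.leaf [nat_lit 212])
 (.leaf [nat_lit 214])
) (.leaf [nat_lit 213])
))
theorem lst2 : allRange 0 2457 (listed T (E 16) 211 216 15 sw2 6) = true := by decide +kernel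

/-- The elements of a point stabiliser. -/
noncomputable def sw8 : LT :=
(.node (.node (.leaf [])
 (.leaf [nat_lit 300])
) (.leaf [nat_lit 301])
)
theorem lst8 : allRange 0 2457 (listed T (E 17) 300 302 0 sw8 3) = true := by decide +kernel

theorem cni1 : Nat.ble (sumB 9 273 (cntW T (E 1) 10 95 4 sw1 18 (invT T [4] B))) 863 = true := by
  decide +kernel

theorem cni2 : Nat.ble (sumB 9 273 (cntW T (E 2) 189 216 1 sw2 6 (invT T B B))) 271 = true := by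
  decide +kernel

theorem cni3 : Nat.ble (sumB 9 273 (cntW T (E 3) 216 235 7 (.leaf []) 1 (invT T B B))) 31 = true := by
  decide +kernel

theorem cni4 : Nat.ble (sumB 9 273 (cntW T (E 4) 235 253 131 (.leaf []) 1 (invT T B B))) 27 = true := by
  decide +kernel

theorem cni5 : Nat.ble (sumB 9 273 (cntW T (E 5) 253 263 1 (.leaf []) 1 (invT T B B))) 9 = true := by
  decide +kernel

theorem cni6 : Nat.ble (sumB 9 273 (cntW T (E 6) 263 268 1 (.leaf []) 1 (invT T B B))) 3 = true := by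
  decide +kernel

theorem cni7 : Nat.ble (sumB 9 273 (cntW T (E 7) 268 283 131 (.leaf []) 1 (invT T B B))) 7 = true := by
  decide +kernel

theorem cni8 : Nat.ble (sumB 9 273 (cntW T (E 8) 283 302 1 sw8 3 (invT T B B))) 49 = true := by
  decide +kernel

theorem cni9 : Nat.ble (sumB 9 273 (cntW T (E 9) 302 315 2 (.leaf []) 1 (invT T B B))) 1 = true := by
  decide +kernel

theorem cni10 : Nat.ble (sumB 9 273 (cntW T (E 10) 315 326 1 (.leaf []) 1 (invT T B B))) 13 = true := by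
  decide +kernel

theorem nec1 : neR [9, 3, 9, 3, 4, 3, 2] [2, 9, 3, 9, 3, 4, 3] = true := by decide +kernel

theorem nec2 : neR [9, 3, 9, 3, 4, 3, 2] [0, 2, 9, 3, 9, 3, 4, 3] = true := by decide +kernel

theorem cmq0 : cmpR [9, 2, 10] [2] = true := by decide +kernel

theorem cmq1 : cmpR [9, 3, 2, 3, 10] [5, 4, 6, 6, 3, 2, 3, 4, 6, 3, 2, 3, 4, 5, 3, 2, 3, 4, 5, 4, 2] = true := by decide +kernel

theorem cmq2 : cmpR [9, 5, 4, 3, 2, 3, 4, 6, 3, 2, 3, 2, 10] [6, 4, 3, 2, 3, 4, 5, 4, 3, 2, 3, 4] = true := by decide +kernel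

theorem cmq3 : cmpR [9, 6, 4, 3, 2, 3, 4, 5, 3, 2, 3, 2, 10] [5, 4, 3, 2, 3, 4, 6, 4, 3, 2, 3, 4, 2] = true := by decide +kernel

theorem cmq4 : cmpR [9, 4, 5, 4, 3, 2, 3, 4, 6, 3, 2, 3, 4, 10] [4, 6, 4, 3, 2, 3, 4, 5, 4, 3, 2, 3, 2] = true := by decide +kernel

theorem cmq5 : cmpR [9, 4, 6, 4, 3, 2, 3, 4, 5, 3, 2, 3, 4, 10] [4, 5, 4, 3, 2, 3, 4, 6, 4, 3, 2, 3] = true := by decide +kernel

theorem cmq6 : cmpR [9, 8, 5, 4, 6, 3, 2, 3, 4, 5, 3, 2, 3, 4, 6, 7, 4, 10] [7, 6, 4, 5, 3, 2, 3, 4, 6, 3, 2, 3, 4, 5, 8, 4, 2] = true := by decide +kernel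

theorem cmq7 : cmpR [9, 6, 4, 6, 3, 4, 5, 5, 2, 3, 4, 5, 2, 3, 4, 5, 2, 3, 4, 5, 2, 3, 2, 10] [6, 3, 4, 6, 3, 4, 5, 2, 3, 4, 5, 3, 2, 3, 4, 6, 2, 3, 4, 5, 2, 3, 4, 3] = true := by decide +kernel

theorem cmq8 : cmpR [9, 3, 9, 3, 4, 3, 9, 3, 9, 3, 4, 3, 9, 3, 9, 3, 4, 3] [0] = true := by decide +kernel

theorem cmq9 : cmpR [9, 3, 9, 3, 4, 3, 5, 9, 3, 9, 3, 4, 3, 6, 9, 3, 9, 3, 4, 3, 5, 9, 3, 9, 3, 4, 3, 6] [8, 5, 4, 6, 3, 2, 3, 4, 5, 3, 2, 3, 4, 6, 7, 4, 3, 2, 3, 2] = true := by decide +kernel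

theorem cmq10 : cmpR [9, 3, 9, 3, 4, 3, 5, 5, 9, 3, 9, 3, 4, 3, 6, 6, 9, 3, 9, 3, 4, 3, 5, 5, 9, 3, 9, 3, 4, 3, 6, 6] [6, 4, 5, 4, 3, 2, 3, 4, 6, 3, 2, 3, 4, 5, 3, 2, 3, 2] = true := by decide +kernel

theorem cmq11 : cmpR [9, 3, 9, 3, 4, 3, 5, 5, 5, 9, 3, 9, 3, 4, 3, 6, 6, 6, 9, 3, 9, 3, 4, 3, 5, 5, 5, 9, 3, 9, 3, 4, 3, 6, 6, 6] [4, 6, 3, 4, 5, 5, 2, 3, 4, 5, 2, 3, 4, 5, 2, 3, 4, 5, 5, 2, 3, 0] = true := by decide +kernel

theorem cmq12 : cmpR [9, 3, 9, 3, 4, 3, 5, 5, 5, 5, 9, 3, 9, 3, 4, 3, 6, 6, 6, 6, 9, 3, 9, 3, 4, 3, 5, 5, 5, 5, 9, 3, 9, 3, 4, 3, 6, 6, 6, 6] [5, 4, 6, 3, 2, 3, 4, 5, 3, 2, 3, 4, 6, 4, 3, 2, 3, 2] = true := by decide +kernel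

theorem cmq13 : cmpR [9, 3, 9, 3, 4, 3, 5, 5, 5, 5, 5, 9, 3, 9, 3, 4, 3, 6, 6, 6, 6, 6, 9, 3, 9, 3, 4, 3, 5, 5, 5, 5, 5, 9, 3, 9, 3, 4, 3, 6, 6, 6, 6, 6] [5, 4, 6, 6, 3, 4, 6, 6, 2, 3, 4, 6, 2, 3, 4, 5, 2, 3, 4, 2, 3] = true := by decide +kernel

theorem cmq14 : cmpR [9, 3, 9, 3, 4, 3, 5, 5, 5, 5, 5, 5, 9, 3, 9, 3, 4, 3, 6, 6, 6, 6, 6, 6, 9, 3, 9, 3, 4, 3, 5, 5, 5, 5, 5, 5, 9, 3, 9, 3, 4, 3, 6, 6, 6, 6, 6, 6] [4, 6, 3, 4, 6, 6, 2, 3, 4, 6, 6, 2, 3, 4, 6, 2, 3, 4, 5, 2, 3] = true := by decide +kernel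


end Cfsg.Agent.Spor.MTh
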