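import Mathlib
import Cfsg.Agent.Spor.Comp.Chain

/-! Generated by tools/pg: coset enumeration ub -/

set_option autoImplicit false
set_option maxRecDepth 100000
set_option linter.unusedVariables false
set_option exponentiation.threshold 100000

namespace Cfsg.Agent.Spor.MTh

open Cfsg.Agent.Spor

noncomputable def ub_rels : LT :=
(.node (.node (.node (.node (.leaf [])
 (.leaf [nat_lit 1,nat_lit 2,nat_lit 1,nat_lit 2,nat_lit 1,nat_lit 2])
) (.node (.leaf [nat_lit 3,nat_lit 3])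
 (.leaf [nat_lit 2,nat_lit 4,nat_lit 2,nat_lit 4])
)) (.node (.node (.leaf [nat_lit 1,nat_lit 1])
 (.leaf [nat_lit 1,nat_lit 4,nat_lit 1,nat_lit 4])
) (.node (.leaf [nat_lit 0,nat_lit 1,nat_lit 0,nat_lit 1,nat_lit 0,nat_lit 1])
 (.leaf [nat_lit 1,nat_lit 2,nat_lit 3,nat_lit 4,nat_lit 1,nat_lit 2,nat_lit 3,nat_lit 4,nat_lit 1,nat_lit 2,nat_lit 3,nat_lit 4,nat_lit 1,nat_lit 2,nat_lit 3,nat_lit 4,nat_lit 1,nat_lit 2,nat_lit 3,nat_lit 4,nat_lit 1,nat_lit 2,nat_lit 3,nat_lit 4,nat_lit 1,nat_lit 2,nat_lit 3,nat_lit 4,nat_lit 1,nat_lit 2,nat_lit 3,nat_lit 4])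
))) (.node (.node (.node (.leaf [nat_lit 0,nat_lit 0])
 (.leaf [nat_lit 1,nat_lit 3,nat_lit 1,nat_lit 3])
) (.node (.leaf [nat_lit 4,nat_lit 4])
 (.leaf [nat_lit 3,nat_lit 4,nat_lit 3,nat_lit 4,nat_lit 3,nat_lit 4])
)) (.node (.node (.leaf [nat_lit 2,nat_lit 2])
 (.leaf [nat_lit 0,nat_lit 3,nat_lit 2,nat_lit 3,nat_lit 2,nat_lit 3,nat_lit 2,nat_lit 3,nat_lit 2])
) (.leaf [nat_lit 0,nat_lit 4,nat_lit 0,nat_lit 4])
)))
noncomputable def ub_hws : LT :=
(.leaf [])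

noncomputable def ub_inv : ℕ → ℕ := getP (nat_lit 8) (nat_lit 255) (nat_lit 0x403020100)

noncomputable def ub_t : BT :=
(.node (.node (.node (.leaf (nat_lit 0x3ffc000000e080000543000fff00003ffc0000fff0000008ae000fff000080870000fff00003ffc0000fff00003ffc00020639c0001509000fff000002954000fff0000030190610e280000375f0310d28400038e30310dc880c42f5a1240c2640c434dc0010aa6c0002f9e0020bf900082da50010994c00424d606108f54008292600009a5c00c204f00007d3818c1f90000082480cc1f11001050285301de70000401c000144d002053a00000d4500203f2c0040ac6002034200c407c4002014d000803750010060401c0000))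
 (.leaf (nat_lit 0x3ffc0000fff00003ffc0000fff00003ffc0002060bc16408f0000061c4244062e000fff00003ffc0000fff00003ffc0000fff00003ffc0000fff00003ffc0000fff00003ffc00910e0800a4359e0210ce7000038630290c56800035e20230b46000033e10000a954000319f0210a2500002d5d0000984400024900020a86c00028d900008638000200c0020975c008245600005924008215300004f200081fd20590412c0000ec50020583c008138d0290301c0000a8400203a280080a460290110c0840302000005000080101))
) (.node (.leaf (nat_lit 0x3ffc0000fff00003ffc0000fff001a41132000fff000080b87000fff001a4066e002047a4003ffc0000fff00003ffc0000048b4003ffc0000fff00003ffc0000fff00003ffc00690e48c000355d0810d0701a432600000c4640002e180020d48800034610110ad6c00029d40020c37c0082dde01109b4c044259606909054008299a00009c5c04420cd039069381a4199001105b280001a9100008448000128800205eac000170f00003814008124c00002fc00440b06002037240e407040000100800803c30110080401c0080))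
 (.leaf (nat_lit 0x100f500030008001000300070320001c0470007031c001402e000804c40010043000603c0002004b0008022c00200cb000702b4001c009000800a40024014000a00600028019000b017c002c09d000b036c002805a000a02640028098000a035c00280d6000a045400240940009034c00240d20009044400241100009034000200cf00080438002010c000803a4002006900070424001c0c900070420001c0880007001c0018105000602140018005000602c00014104000503b800100c30003020800080c1000104000000000))
)) (.node (.node (.leaf (nat_lit 0x3ffc0000fff00003ffc001904dcc00010c7000fff0012c0930000fff0000005c3019033b4003ffc0000fff00003ffc000206440003ffc0000fff00003ffc0000fff00003ffc00000df7c144361e0190cc74000321a0020de8c00036620000cd840642c180090ab5c00831e00190a1640002c5c0000ac6c02c251201908d4406422940090874c000255600008e54000196900905a3c06415ce009052345301e1000205db00240f06051039241240d88002042c80000f4a019027100000a05002016b806402c20090070401c0040))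
 (.leaf (nat_lit 0x2ac07417b501e082cc08030ab06b1ce741b0779d06d216541b8798d06f346141c0b78507120dd41cc35750742ddd41d4556d0763028c1e8c14507b2428c2ed81350bc5026c305d000fff00003ffc0000fff00003ffc0000fff00003ffc0000fff00003ffc0000fff00003ffc0000fff00003ffc0000fff00003ffc0000fff00003ffc0000fff00003ffc0000fff00003ffc0000fff00003ffc0000fff00003ffc0000fff00003ffc0000fff00003ffc0000fff00003ffc0000fff00003ffc0000fff00003ffc0000fff00003ffc0))
) (.leaf (nat_lit 0x4f5002012d8003ffc000004c20003ffc00000461c0080c6d041062bc0080945000032c0003ffc0000fff00003ffc000206744003ffc0000fff00003ffc0000fff00003ffc008b0e57c00036e00000cb6c1e436a20000e68c1c42e5a0000b35c0002bd60020ca840002e9e0000a04c00027920020b2740082b9c00008c40000224f00209f640082758000068a400822d500208850000158917c072345301e5100205fa81040f8a0020553800812f3002045c41040b46000026b800006c300201a1000002810020090801c00c0))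
))

noncomputable def ub_rules : LT :=
(.node (.node (.node (.node (.node (.leaf [nat_lit 7,nat_lit 1,nat_lit 1,nat_lit 0,nat_lit 4,nat_lit 0,nat_lit 4])
 (.leaf [nat_lit 14,nat_lit 29,nat_lit 0,nat_lit 2,nat_lit 3,nat_lit 4,nat_lit 1,nat_lit 2,nat_lit 3,nat_lit 4,nat_lit 1,nat_lit 2,nat_lit 3,nat_lit 4,nat_lit 1,nat_lit 2,nat_lit 3,nat_lit 4,nat_lit 1,nat_lit 2,nat_lit 3,nat_lit 4,nat_lit 1,nat_lit 2,nat_lit 3,nat_lit 4,nat_lit 1,nat_lit 2,nat_lit 3,nat_lit 4,nat_lit 1,nat_lit 2,nat_lit 3,nat_lit 4,nat_lit 1])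
) (.leaf [nat_lit 13,nat_lit 3,nat_lit 1,nat_lit 3,nat_lit 4,nat_lit 3,nat_lit 4,nat_lit 3,nat_lit 4])
) (.node (.node (.leaf [nat_lit 13,nat_lit 4,nat_lit 1,nat_lit 4,nat_lit 3,nat_lit 4,nat_lit 3,nat_lit 4,nat_lit 3])
 (.leaf [nat_lit 11,nat_lit 8,nat_lit 1,nat_lit 5,nat_lit 0,nat_lit 2,nat_lit 3,nat_lit 2,nat_lit 3,nat_lit 2,nat_lit 3,nat_lit 2,nat_lit 3])
) (.leaf [nat_lit 6,nat_lit 3,nat_lit 1,nat_lit 0,nat_lit 1,nat_lit 0,nat_lit 1,nat_lit 0,nat_lit 1])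
)) (.node (.node (.node (.leaf [nat_lit 12,nat_lit 1,nat_lit 1,nat_lit 2,nat_lit 4,nat_lit 2,nat_lit 4])
 (.leaf [nat_lit 10,nat_lit 2,nat_lit 1,nat_lit 4,nat_lit 1,nat_lit 4,nat_lit 1])
) (.leaf [nat_lit 8,nat_lit 3,nat_lit 1,nat_lit 1,nat_lit 2,nat_lit 1,nat_lit 2,nat_lit 1,nat_lit 2])
) (.node (.node (.leaf [nat_lit 11,nat_lit 8,nat_lit 1,nat_lit 0,nat_lit 2,nat_lit 3,nat_lit 2,nat_lit 3,nat_lit 2,nat_lit 3,nat_lit 2,nat_lit 3])
 (.leaf [nat_lit 11,nat_lit 0,nat_lit 0,nat_lit 5,nat_lit 0,nat_lit 3,nat_lit 2,nat_lit 3,nat_lit 2,nat_lit 3,nat_lit 2,nat_lit 3,nat_lit 2])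
) (.leaf [nat_lit 11,nat_lit 5,nat_lit 1,nat_lit 3,nat_lit 2,nat_lit 3,nat_lit 0,nat_lit 2,nat_lit 3,nat_lit 2,nat_lit 3,nat_lit 2])
))) (.node (.node (.node (.node (.leaf [nat_lit 10,nat_lit 1,nat_lit 1,nat_lit 1,nat_lit 4,nat_lit 1,nat_lit 4])
 (.leaf [nat_lit 14,nat_lit 29,nat_lit 1,nat_lit 3,nat_lit 2,nat_lit 1,nat_lit 4,nat_lit 3,nat_lit 2,nat_lit 1,nat_lit 4,nat_lit 3,nat_lit 2,nat_lit 1,nat_lit 4,nat_lit 3,nat_lit 2,nat_lit 1,nat_lit 4,nat_lit 3,nat_lit 2,nat_lit 1,nat_lit 4,nat_lit 3,nat_lit 2,nat_lit 1,nat_lit 4,nat_lit 3,nat_lit 2,nat_lit 1,nat_lit 4,nat_lit 3,nat_lit 2,nat_lit 1,nat_lit 4])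
) (.leaf [nat_lit 6,nat_lit 4,nat_lit 1,nat_lit 1,nat_lit 0,nat_lit 1,nat_lit 0,nat_lit 1,nat_lit 0])
) (.node (.node (.leaf [nat_lit 12,nat_lit 2,nat_lit 1,nat_lit 4,nat_lit 2,nat_lit 4,nat_lit 2])
 (.leaf [nat_lit 11,nat_lit 7,nat_lit 1,nat_lit 5,nat_lit 3,nat_lit 0,nat_lit 2,nat_lit 3,nat_lit 2,nat_lit 3,nat_lit 2,nat_lit 3,nat_lit 2])
) (.leaf [nat_lit 8,nat_lit 4,nat_lit 1,nat_lit 2,nat_lit 1,nat_lit 2,nat_lit 1,nat_lit 2,nat_lit 1])
)) (.node (.node (.node (.leaf [nat_lit 9,nat_lit 1,nat_lit 1,nat_lit 1,nat_lit 3,nat_lit 1,nat_lit 3])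
 (.leaf [nat_lit 7,nat_lit 3,nat_lit 1,nat_lit 5,nat_lit 0,nat_lit 4,nat_lit 0,nat_lit 4])
) (.leaf [nat_lit 7,nat_lit 2,nat_lit 1,nat_lit 4,nat_lit 0,nat_lit 4,nat_lit 0])
) (.node (.leaf [nat_lit 11,nat_lit 4,nat_lit 1,nat_lit 2,nat_lit 3,nat_lit 2,nat_lit 3,nat_lit 0,nat_lit 2,nat_lit 3,nat_lit 2,nat_lit 3])
 (.leaf [nat_lit 9,nat_lit 0,nat_lit 1,nat_lit 3,nat_lit 1,nat_lit 3,nat_lit 1])
))))

noncomputable def ub_subs : LT :=
(.leaf [nat_lit 0,nat_lit 0,nat_lit 0,nat_lit 5])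


noncomputable def ub : TC :=
  ⟨fun x c => Nat.shiftRight (BT.get ub_t x) (Nat.mul (nat_lit 30) c),
  (nat_lit 6), (nat_lit 63), (nat_lit 262143), (nat_lit 18), (nat_lit 4095), (nat_lit 262080), (nat_lit 36), (nat_lit 55), (nat_lit 5), (nat_lit 4), (nat_lit 5), (nat_lit 6), ub_inv, ub_rules, ub_subs⟩

theorem ub_c1 : ub.rules.all (ruleOK ub.m ub.inv ub_rels) = true := by decide +kernel
theorem ub_c2 : ub.subs.all (subOK ub.m ub.inv ub_hws) = true := by decide +kernel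
theorem ub_c3 : ub.base = true := by decide +kernel

theorem ub_s0 : ub.slots (nat_lit 0) (nat_lit 55) = true := by decide +kernel

theorem ub_e0 : allRange (nat_lit 36) (nat_lit 19) ub.slotE = true := by decide +kernel

theorem ub_c4 : ub.Upto ub.N := ((TC.upto_zero ub).step _ ub_s0)
theorem ub_c5 : ub.UptoE ub.N := ((TC.uptoE_n ub).step _ ub_e0)
theorem ub_bound {G : Type*} [Group G] {g : ℕ → G} {H : Subgroup G} (hinv : ∀ x < 5, g x * g (ub_inv x) = 1)
    (hrels : ∀ i, evalW g (ub_rels.get i) = 1) (hH : ∀ x < 4, g x ∈ H) (hhws : ∀ i, evalW g (ub_hws.get i) ∈ H) :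
    H.relIndex (genLt g 5) ≠ 0 ∧ H.relIndex (genLt g 5) ≤ 36 :=
  TC.relIndex_le (T := ub) hinv hrels hH hhws ub_c1 ub_c2 ub_c3 ub_c4 ub_c5

end Cfsg.Agent.Spor.MTh
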