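import Mathlib
import Cfsg.Agent.Spor.Comp.Chain

/-! Generated by tools/pg: coset enumeration ud -/

set_option autoImplicit false
set_option maxRecDepth 100000
set_option linter.unusedVariables false
set_option exponentiation.threshold 100000

namespace Cfsg.Agent.Spor.MTh

open Cfsg.Agent.Spor

noncomputable def ud_rels : LT :=
(.node (.node (.node (.node (.node (.leaf [])
 (.leaf [nat_lit 2,nat_lit 4,nat_lit 2,nat_lit 4])
) (.node (.leaf [nat_lit 7,nat_lit 8])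
 (.leaf [nat_lit 4,nat_lit 6,nat_lit 4,nat_lit 6,nat_lit 6,nat_lit 4,nat_lit 5,nat_lit 5,nat_lit 5])
)) (.node (.node (.leaf [nat_lit 3,nat_lit 3])
 (.leaf [nat_lit 6,nat_lit 0,nat_lit 5,nat_lit 0])
) (.node (.leaf [nat_lit 1,nat_lit 2,nat_lit 1,nat_lit 2,nat_lit 1,nat_lit 2])
 (.leaf [nat_lit 8,nat_lit 2,nat_lit 7,nat_lit 2])
))) (.node (.node (.node (.leaf [nat_lit 1,nat_lit 1])
 (.leaf [nat_lit 1,nat_lit 2,nat_lit 3,nat_lit 4,nat_lit 1,nat_lit 2,nat_lit 3,nat_lit 4,nat_lit 1,nat_lit 2,nat_lit 3,nat_lit 4,nat_lit 1,nat_lit 2,nat_lit 3,nat_lit 4,nat_lit 1,nat_lit 2,nat_lit 3,nat_lit 4,nat_lit 1,nat_lit 2,nat_lit 3,nat_lit 4,nat_lit 1,nat_lit 2,nat_lit 3,nat_lit 4,nat_lit 1,nat_lit 2,nat_lit 3,nat_lit 4])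
) (.node (.leaf [nat_lit 0,nat_lit 1,nat_lit 0,nat_lit 1,nat_lit 0,nat_lit 1])
 (.leaf [nat_lit 8,nat_lit 0,nat_lit 7,nat_lit 0])
)) (.node (.node (.leaf [nat_lit 5,nat_lit 6])
 (.leaf [nat_lit 6,nat_lit 2,nat_lit 5,nat_lit 2])
) (.node (.leaf [nat_lit 1,nat_lit 4,nat_lit 1,nat_lit 4])
 (.leaf [nat_lit 8,nat_lit 4,nat_lit 7,nat_lit 4])
)))) (.node (.node (.node (.node (.leaf [nat_lit 0,nat_lit 0])
 (.leaf [nat_lit 3,nat_lit 4,nat_lit 3,nat_lit 4,nat_lit 3,nat_lit 4])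
) (.node (.leaf [nat_lit 8,nat_lit 7])
 (.leaf [nat_lit 7,nat_lit 7,nat_lit 7])
)) (.node (.node (.leaf [nat_lit 4,nat_lit 4])
 (.leaf [nat_lit 6,nat_lit 1,nat_lit 5,nat_lit 1])
) (.node (.leaf [nat_lit 1,nat_lit 3,nat_lit 1,nat_lit 3])
 (.leaf [nat_lit 8,nat_lit 3,nat_lit 7,nat_lit 3])
))) (.node (.node (.node (.leaf [nat_lit 2,nat_lit 2])
 (.leaf [nat_lit 5,nat_lit 5,nat_lit 5,nat_lit 5,nat_lit 5,nat_lit 5,nat_lit 5])
) (.node (.leaf [nat_lit 0,nat_lit 4,nat_lit 0,nat_lit 4])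
 (.leaf [nat_lit 8,nat_lit 1,nat_lit 7,nat_lit 1])
)) (.node (.node (.leaf [nat_lit 6,nat_lit 5])
 (.leaf [nat_lit 5,nat_lit 3,nat_lit 5,nat_lit 3])
) (.node (.leaf [nat_lit 0,nat_lit 3,nat_lit 2,nat_lit 3,nat_lit 2,nat_lit 3,nat_lit 2,nat_lit 3,nat_lit 2])
 (.leaf [nat_lit 8,nat_lit 5,nat_lit 7,nat_lit 6,nat_lit 6])
)))))
noncomputable def ud_hws : LT :=
(.leaf [])

noncomputable def ud_inv : ℕ → ℕ := getP (nat_lit 8) (nat_lit 255) (nat_lit 0x70805060403020100)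

noncomputable def ud_t : BT :=
(.node (.node (.node (.node (.leaf (nat_lit 0x62122020910e000))
 (.leaf (nat_lit 0xc210100080040e2))
) (.leaf (nat_lit 0xa2162420d10e040))
) (.node (.node (.leaf (nat_lit 0x82142220b10e020))
 (.leaf (nat_lit 0x10800107000000))
) (.leaf (nat_lit 0x182521910e060))
)) (.node (.node (.node (.leaf (nat_lit 0x72132120a10e010))
 (.leaf (nat_lit 0x1ff001ff001ff0))
) (.leaf (nat_lit 0xb2172001a10e050))
) (.node (.leaf (nat_lit 0x92152320c10e030))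
 (.leaf (nat_lit 0xf00011204071))
)))

noncomputable def ud_rules : LT :=
(.node (.node (.node (.node (.leaf [nat_lit 26,nat_lit 0,nat_lit 1,nat_lit 0,nat_lit 8,nat_lit 0,nat_lit 7])
 (.leaf [nat_lit 28,nat_lit 2,nat_lit 1,nat_lit 2,nat_lit 7,nat_lit 2,nat_lit 8])
) (.node (.leaf [nat_lit 30,nat_lit 0,nat_lit 1,nat_lit 4,nat_lit 8,nat_lit 4,nat_lit 7])
 (.leaf [nat_lit 25,nat_lit 1,nat_lit 0,nat_lit 8,nat_lit 7,nat_lit 7])
)) (.node (.node (.leaf [nat_lit 28,nat_lit 0,nat_lit 1,nat_lit 2,nat_lit 8,nat_lit 2,nat_lit 7])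
 (.leaf [nat_lit 30,nat_lit 2,nat_lit 1,nat_lit 4,nat_lit 7,nat_lit 4,nat_lit 8])
) (.leaf [nat_lit 26,nat_lit 2,nat_lit 1,nat_lit 0,nat_lit 7,nat_lit 0,nat_lit 8])
)) (.node (.node (.node (.leaf [nat_lit 27,nat_lit 0,nat_lit 1,nat_lit 1,nat_lit 8,nat_lit 1,nat_lit 7])
 (.leaf [nat_lit 29,nat_lit 2,nat_lit 1,nat_lit 3,nat_lit 7,nat_lit 3,nat_lit 8])
) (.leaf [nat_lit 31,nat_lit 1,nat_lit 0,nat_lit 6,nat_lit 7,nat_lit 6,nat_lit 6,nat_lit 8])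
) (.node (.node (.leaf [nat_lit 29,nat_lit 0,nat_lit 1,nat_lit 3,nat_lit 8,nat_lit 3,nat_lit 7])
 (.leaf [nat_lit 31,nat_lit 3,nat_lit 1,nat_lit 5,nat_lit 7,nat_lit 5,nat_lit 5,nat_lit 8])
) (.leaf [nat_lit 27,nat_lit 2,nat_lit 1,nat_lit 1,nat_lit 7,nat_lit 1,nat_lit 8])
)))

noncomputable def ud_subs : LT :=
(.leaf [nat_lit 0,nat_lit 0,nat_lit 0,nat_lit 9])


noncomputable def ud : TC :=
  ⟨fun x c => Nat.shiftRight (BT.get ud_t x) (Nat.mul (nat_lit 20) c),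
  (nat_lit 4), (nat_lit 15), (nat_lit 8191), (nat_lit 13), (nat_lit 127), (nat_lit 8176), (nat_lit 3), (nat_lit 3), (nat_lit 9), (nat_lit 7), (nat_lit 9), (nat_lit 10), ud_inv, ud_rules, ud_subs⟩

theorem ud_c1 : ud.rules.all (ruleOK ud.m ud.inv ud_rels) = true := by decide +kernel
theorem ud_c2 : ud.subs.all (subOK ud.m ud.inv ud_hws) = true := by decide +kernel
theorem ud_c3 : ud.base = true := by decide +kernel

theorem ud_s0 : ud.slots (nat_lit 0) (nat_lit 3) = true := by decide +kernel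

theorem ud_c4 : ud.Upto ud.N := ((TC.upto_zero ud).step _ ud_s0)
theorem ud_c5 : ud.UptoE ud.N := (TC.uptoE_n ud)
theorem ud_bound {G : Type*} [Group G] {g : ℕ → G} {H : Subgroup G} (hinv : ∀ x < 9, g x * g (ud_inv x) = 1)
    (hrels : ∀ i, evalW g (ud_rels.get i) = 1) (hH : ∀ x < 7, g x ∈ H) (hhws : ∀ i, evalW g (ud_hws.get i) ∈ H) :
    H.relIndex (genLt g 9) ≠ 0 ∧ H.relIndex (genLt g 9) ≤ 3 :=
  TC.relIndex_le (T := ud) hinv hrels hH hhws ud_c1 ud_c2 ud_c3 ud_c4 ud_c5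

end Cfsg.Agent.Spor.MTh
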