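import Mathlib
import Cfsg.Agent.Spor.Th.ChA0
import Cfsg.Agent.Spor.Th.ChA1
import Cfsg.Agent.Spor.Th.ChA2
import Cfsg.Agent.Spor.Th.Ub0

/-! Generated by tools/th: the action of the subgroup on 2457 points -/

set_option autoImplicit false
set_option maxRecDepth 100000
set_option linter.unusedVariables false
set_option exponentiation.threshold 100000

namespace Cfsg.Agent.Spor.MTh

open Cfsg.Agent.Spor Cfsg.Agent.Spor.DC Cfsg.Spor

theorem tabsP : Tabs (finE 2457) 2457 T (fun x => permOf 2457 (T x)) 9 := tabs_permOf (inv := inv) ((allLt_iff _ _).1 invc)

theorem exHom0 : ∃ φ : HH →* Equiv.Perm (Fin 2457), ∀ x < 9, φ (g0 x) = permOf 2457 (T x) :=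
  wq_hom RH_lt (tabsP.rels_of_fixUpto (fun a _ h => finE_faithful a h) RH_lt ((((((fixUpto_zero T RH).step _ relc0).step _ relc1).step _ relc2).step _ relc3).step _ relc4))

/-- The action of `HH` on 2457 points. -/
noncomputable instance actH : MulAction HH (Fin 2457) := MulAction.compHom _ exHom0.choose

/-- The letters. -/
noncomputable def g : ℕ → HH := slp g0 9 defs

theorem tabs : Tabs (finE 2457) 2457 T g 345 :=
  ((((((((((((((((((((((((((((tabs_compHom _ tabsP exHom0.choose_spec).slp_base defs).slp_add (by decide) 12 slp9).slp_add (by decide) 12 slp21).slp_add (by decide) 14 slp33).slp_add (by decide) 14 slp47).slp_add (by decide) 14 slp61).slp_add (by decide) 15 slp75).slp_add (by decide) 14 slp90).slp_add (by decide) 15 slp104).slp_add (by decide) 12 slp119).slp_add (by decide) 12 slp131).slp_add (by decide) 12 slp143).slp_add (by decide) 12 slp155).slp_add (by decide) 12 slp167).slp_add (by decide) 4 slp179).slp_add (by decide) 5 slp183).slp_add (by decide) 13 slp188).slp_add (by decide) 14 slp201).slp_add (by decide) 13 slp215).slp_add (by decide) 13 slp228).slp_add (by decide) 15 slp241).slp_add (by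 decide) 15 slp256).slp_add (by decide) 14 slp271).slp_add (by decide) 13 slp285).slp_add (by decide) 12 slp298).slp_add (by decide) 14 slp310).slp_add (by decide) 14 slp324).slp_add (by decide) 7 slp338

theorem g_lt {x : ℕ} (h : x < 9) : g x = g0 x := slp_lt _ _ h

theorem psi_g {x : ℕ} (h : x < 9) : psi (g x) = gG x := g_lt h ▸ psi_g0 x h

theorem evalW_g {w : List ℕ} (h : lettersLt 9 w = true) : evalW g w = evalW g0 w :=
  evalW_congr fun x hx => g_lt ((lettersLt_iff _ _).1 h x hx)

theorem top9 : genR g 0 9 = ⊤ := by
  rw [genR_zero, eq_top_iff, ← top0]
  exact genLt_le fun x hx => g_lt hx ▸ mem_genLt g hx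

theorem top : genLt g 345 = ⊤ := by
  rw [eq_top_iff, ← top9, genR_zero]
  exact genLt_mono g (by decide)

theorem rg (lo k hi : ℕ) (h : rangeOK defs 9 lo k hi = true := by decide +kernel) : RangeIn g lo hi (genR g lo k) :=
  rangeIn_slp g0 h

theorem rg0 (lo k : ℕ) : RangeIn g lo (lo + k) (genR g lo k) := fun _ h1 h2 => mem_genR g h1 h2

theorem low0 : LowLevel (genR g 0 9) (genR g 9 8) ((finE 2457) 0) 2457 :=
  lowLevel tabs (finE_injOn 2457) (E := E 0) (rg 0 9 345) (by decide +kernel)

theorem low1 : LowLevel (genR g 9 8) (genR g 100 4) ((finE 2457) 4) 2048 :=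
  lowLevel tabs (finE_injOn 2457) (E := E 1) (rg 9 8 116) (by decide +kernel)

theorem low2 : LowLevel (genR g 100 4) (genR g 116 0) ((finE 2457) 79) 126 :=
  lowLevel tabs (finE_injOn 2457) (E := E 12) (rg 100 4 116) (by decide +kernel)

theorem lb2 (h : Finite (genR g 100 4)) : 126 * 1 ≤ Nat.card (genR g 100 4) := low2.card h (one_le_card_fin _)

theorem lev0 : Level (genR g 0 9) (genR g 9 8) ((finE 2457) 0) 2457 ∧
    Nat.card (genR g 9 8) ≠ 0 ∧ Nat.card (genR g 9 8) ≤ 2048 * (126 * 1) :=
  low0.level (by rw [top9, Subgroup.card_top]; exact ubH) fun h => low1.card h lb2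

theorem lev1 : Level (genR g 9 8) (genR g 100 4) ((finE 2457) 4) 2048 ∧
    Nat.card (genR g 100 4) ≠ 0 ∧ Nat.card (genR g 100 4) ≤ 126 * 1 := low1.level lev0.2 lb2

theorem lev2 : Level (genR g 100 4) (genR g 116 0) ((finE 2457) 79) 126 ∧
    Nat.card (genR g 116 0) ≠ 0 ∧ Nat.card (genR g 116 0) ≤ 1 := low2.level lev1.2 (one_le_card_fin _)

theorem base : IsBase (finE 2457) (⊤ : Subgroup HH) B :=
  top9 ▸ lev0.1.base (lev1.1.base (lev2.1.base (isBase_genLt_zero _ _)))

theorem invlt : ∀ x < 345, inv x < 345 := fun x hx =>
  (blt_iff _ _).1 ((allLt_iff _ _).1 (show allLt 345 (fun x => blt (inv x) 345) = true by decide +kernel) x hx)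

theorem ctx : Ctx (finE 2457) 2457 T g 345 inv B :=
  ⟨tabs, (finE_injOn 2457), tabs.hinv_of_base (base.mono le_top) (by decide +kernel), invlt, base, by decide +kernel⟩

theorem cardH : Nat.card HH = 634023936 :=
  card_of_top top9 (lev0.1.card (lev1.1.card (lev2.1.card (card_genLt_zero _))))

theorem stabP {y : HH} (hy : y • (finE 2457) 0 = (finE 2457) 0) : y ∈ genR g 9 8 := lev0.1.stab.le ⟨top9.ge trivial, hy⟩

/-! ### The subgroup generated by `a, b, c, d, e, s` -/

/-- The letters of the subgroup. -/
noncomputable def kL (x : ℕ) : HH := g (326 + x)

/-- The tables of these letters. -/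
noncomputable def TL (x : ℕ) : ℕ → ℕ := T (Nat.add 326 x)

/-- Inverse letters. -/
noncomputable def iL (x : ℕ) : ℕ := Nat.sub (inv (Nat.add 326 x)) 326

/-- The subgroup generated by `a, b, c, d, e, s`. -/
noncomputable def LL : Subgroup HH := genLt kL 19

theorem tabsL : Tabs (finE 2457) 2457 TL kL 19 := fun x hx => tabs (326 + x) (by omega)

theorem g_def {x : ℕ} (h : 9 ≤ x) (hw : lettersLt 9 (tlL (defs.get x)) = true) :
    g x = evalW g0 (tlL (defs.get x)) ^ (if hdL (defs.get x) = 0 then 1 else -1 : ℤ) := by
  rw [← evalW_g hw]
  exact slp_ge g0 defs h ((lettersLt_iff _ _).2 fun y hy => ((lettersLt_iff _ _).1 hw y hy).trans_le h)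

theorem LL_eq : LL = genLt g0 7 := by
  refine le_antisymm (genLt_le fun x hx => ?_) (genLt_le fun x hx => ?_)
  · have h1 := (allLt_iff _ _).1
      (show allLt 19 (fun x => lettersLt 7 (tlL (defs.get (326 + x)))) = true by decide +kernel) x hx
    rw [kL, g_def (by omega) ((lettersLt_iff _ _).2 fun y hy => ((lettersLt_iff _ _).1 h1 y hy).trans (by decide))]
    exact Subgroup.zpow_mem _ (evalW_mem_genLt g0 h1) _
  · have h1 := eq_of_beqL ((allLt_iff _ _).1
      (show allLt 7 (fun x => beqL (defs.get (326 + (12 + x))) [0, x]) = true by decide +kernel) x hx)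
    have h2 := mem_genLt kL (show 12 + x < 19 by omega)
    rw [kL, g_def (by omega) (by rw [h1]; exact lettersLt_cons (by omega) rfl), h1] at h2
    simpa [tlL, hdL, LL] using h2

theorem lowL0 : LowLevel LL (genR g 326 12) ((finE 2457) 0) 2457 :=
  lowLevel tabs (finE_injOn 2457) (E := E 13) (rg0 326 19) (by decide +kernel)

theorem lowL1 : LowLevel (genR g 326 12) (genR g 334 4) ((finE 2457) 4) 2048 :=
  lowLevel tabs (finE_injOn 2457) (E := E 14) (rg0 326 12) (by decide +kernel)

theorem lowL2 : LowLevel (genR g 334 4) (genR g 338 0) ((finE 2457) 79) 42 :=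
  lowLevel tabs (finE_injOn 2457) (E := E 15) (rg0 334 4) (by decide +kernel)

theorem lbL2 (h : Finite (genR g 334 4)) : 42 * 1 ≤ Nat.card (genR g 334 4) := lowL2.card h (one_le_card_fin _)

theorem levL0 : Level LL (genR g 326 12) ((finE 2457) 0) 2457 ∧
    Nat.card (genR g 326 12) ≠ 0 ∧ Nat.card (genR g 326 12) ≤ 2048 * (42 * 1) :=
  lowL0.level (by rw [LL_eq]; exact ub7) fun h => lowL1.card h lbL2

theorem levL1 : Level (genR g 326 12) (genR g 334 4) ((finE 2457) 4) 2048 ∧
    Nat.card (genR g 334 4) ≠ 0 ∧ Nat.card (genR g 334 4) ≤ 42 * 1 := lowL1.level levL0.2 lbL2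

theorem cardPL : Nat.card (genR g 326 12) = 86016 :=
  levL1.1.card ((lowL2.level levL1.2 (one_le_card_fin _)).1.card (card_genLt_zero _))

theorem cardL : Nat.card LL = 211341312 := levL0.1.card cardPL

/-- Labels for the suborbits. -/
noncomputable def Ec : ℕ → ℕ := getP (nat_lit 12) (nat_lit 4095) (nat_lit 0x90ba0ba00a06a07a05907a0ba07a01901a07907a05807906907a0790590790b80780690690b907900904a07905906907a05904907906807907907905a05707907804907904a07a0590b90590790b90b807a0b907907a05a06905806906a00907807807807906a0790480790b906805905a00905907901900904906907807807907907807901906a0790b90b905907a07905906a07907a07907a07905907a0790790790b90790590b90790b907806907907907904a07906a07907a0780b807807807907907806904905907906906707a07807807907907907807907807807807807807806901a01904a0ba07906a0b90780780570770780790790b907807807901a07a07907807707907900a0ba00a0680090b80580ba05905906900905a0b80770780790780790690780790790590090590090b901906907805807a0780690690b90b80590790680790590680690590790090690790690790780b907907804904904907806801a07807904806907907a07907a07a07900906a0ba0190b90b90580490b900706907907907905804904907904705905805904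70790790780690080b80b90690790790b80ba0b80480590780580490480680190790780790770790780780480790490b900a0790780480590690590590790790b90b80480570590590780b904900a0680b906905907804907907804a0580690490490190790790790790790690b805900a07807804905900a00a00806a0190b805806904901901904906a0790690b80780680590080b90790b907904907901806a06807a01905906907807800706804800a0090580790790b90690b80b80690680770770790780780780780790190090490690780790770770780770790780780b90b90b90b90490480b907a00706806805905805906a00a0090090180490090b901905805900906901900904907906807807706806906900800806a07900907807607707707707707907801907801a04905806806907905a0690780690b80180480480690080580590490b901906706800806905904904904806906905a06906a07804906a07907a07a07a07907906907805a0680b906806901a07906905904904a05806907907807907907907906807a0590780780b707a0790490690b900a0480680780770770770790790790780770760780790690590490ba05a00a0680090580ba00806904805807805a0b90b90690090090ba05907906807807707807707807707807806906a06a04907904a07906a05900907807a07807905a0ba04a0580090b805a0480690780770790780770590b90590b90080b905905a0690490b90b90b906806905707607607707707907804904800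90090090490790180b90570180680090760680190690090690780690090490480680680690690790490480590680590ba04906906a06907904907a07a07900906905a0190b90690780490090590080470680770b80b80b70b90680680690b80490490490780680190780790480690470b90b80b80b90b70480b807904a0190590580b90b70b80b80480b70b80470580790b70b80b80b90b80b90790480570560580580770690190490690480680180090490580090780090690680590780590580480b70b90770b70570490490190490680680b80b90490b900a0690680590690b807804807807804a0b80680190690490470690190590790790780b70b90b70b80590790790790680b90480b90580490b806805a0090b90470690190790570570480580580480790780780780780780780770790780790770790780790780780780780780780790780780790770770780790790680070170480490480480090080590070690190680670580580480170570590470490490690690180680580b90480b80080480480590590590590490480590790690490480790780790790680180170690680480690680690090490190490670480080680680690680490680490490490680ba04906906a0680790b70b70480b80690090590690670680180460680090780770780070070690680790490190090490680790770770770680690690080080690790080760780760760770780b90b80b80b90070580190790b80680690480090690b80b900805806806906900800806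a0790090770790480470680770780780690080690690090480770580470470690180470480070590490680b90580480470680680090690480580580690b70b904a07905906905a07a0480080070690080470590180190680690490b906804901906807906904a06a04906800907907906807a0b900807707907807a04a05a04a0b80090580ba0480680770760780770770b90590b90590090580590b90ba0680b90490590590080590590680690b70770760760760770770790580590b906906906900807806906805900907807a0790790b90690590480780590680680b705a0180080690090180550760780b80480490480680180580b80480680480b90b80b80490b80b90b80680060470680b70470480480480780680780490480680690680b80b90b90490b90ba04a0190590680b90770580580580580480570580480470b80b70b70b80690570590580580590570480580790480b70b60b80b80580790780780780780780780770b80b70b70b60570790780790770790780790780b70b60b80b70560b70060b80480670680b90b70480b70b70b80490b80b90b70480070070680490680170680670680480680780780780570590770580b80780780790680590480590b80490580680ba0090590470690180790b70b70480b80b80480790780780780b90770770780790b90b70b70480b80b80460570570780770770770770770770760780770780760780770780770780770770780770760780790590ba0590b804805806904705707807707707807607607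70780790770770780780780780580460480490480680180780580480680580480560590580580490580590580b70b70b805905805805904707805704704804804805806805804904806806906705705805805905904905905a0460b80b90580570580070080780680690690080080690790780760790480470670770770b80680690190080690490690090480690080180b90580580480080b80490680690480470680780460570b80580080b80b70670580490480680170460570060580480670680580590570b80570570580490570580580590580ba0470480170660070070070660670680480690790160680170670660070070680670680480690b80b90590690690690080480690680b90080770790780790590690b90470780b90680680570ba0180080690090180b50760780b805806705804806804706805907a0680080690090470b70680150770b70b50b80b70b70480b70b80b80b70b70b90b70670b60b60b70b70b80b80480b80b90470b80b90b80570780770770770770770770770580570570560b60780770780760780770780780570560580570b70780770770760b80770760780770b80480080060670b70b80b90b80680680660b70b70b80b90b60470460660190470460650670680670780770770780580760760770790590570570480580580460b70b90770770780780780760b70b60580590580670080570590070670780780080680080080780760770760760770760750770790b905a0b90570760760760770770780580b804800705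80690580570480470170680470460680180080760760770770770760770770570550580570570480570580580570570570590560b70570560560570570580580480580590460570580590570b80590b80b80480080580790680690480470670780460b70580b80080580570670b80490480680170490170570b80580470580670b70b70480180080660670570580590580680680660570570580590560470460660190470460450670680680580b80670b80480680470680b807a0680080690090470570680150780570570470580580470680670470480170070070070070670660b60b60b80b80b60680170680060080070680450b60b70b80b80b60770760760760570760750770770570760760760770770770170670670670670070180170070080b80460660670680b60b50b50450b60b60480760760770770770760570560b60770760b80580670080570590570670780780580680580580780790580180580780080770670680660550550560560750750750760760780b80550760780570470670180570460680580470560560460570570450760760770480170070070070070670660560560580580560680170680060080070680450560570580580590170b70580b80470b80670570570480480680b90180160b70470070670670670070180170070080580460660670680560550550450560560480b70b70470b80b80470680670460570570460460060060060060660650670160670050070060670470160470460660170b70460450670170b607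50750750760760750760760160060070450650660670180160060670670170440b50b50760760560780580480080770670680780790470070680680170740550540750780b50770560560460570570450560550760750760750760460060060060060660650670160670050070060670470160470460660170570460450670170580480680590180160570670460160060070450650660670180060060670670170440550560b70b70460550450650160450440660160460550550450560560440750750770050050660660160450660140b50790770070680680170760670140540760750760750750560550540750750450650160450440660160460b50b50450b60b60470670470470150050660660160450660140560b50b40b40440b50b50440550540750040650140040650150450740750740760670160440750750540730550540540440550550440b50b70450040650140040650150460050660150030b40b40530640140430740760440730750040650140030540540b30640140450040650140040650130b30430730740030640130030640130530430640140420b207400306401300206301304205304303206301204203202204100202100100100)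

/-- Words for the suborbits. -/
noncomputable def maxU (r : ℕ) : List ℕ := (Bool.rec (Bool.rec [nat_lit 15,nat_lit 13] [nat_lit 15] (Nat.beq r (nat_lit 2))) [nat_lit 13] (Nat.beq r (nat_lit 1)))

/-- Words for the maximality certificate. -/
noncomputable def maxV (r : ℕ) : ℕ → List ℕ := LT.get (Bool.rec (Bool.rec (.node (.node (.node (.node (.node (.leaf [])
 (.leaf [])
) (.leaf [])
) (.node (.leaf [])
 (.leaf [])
)) (.node (.node (.node (.leaf [])
 (.leaf [])
) (.leaf [])
) (.node (.leaf [])
 (.leaf [])
))) (.node (.node (.node (.node (.leaf [])
 (.leaf [])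
) (.leaf [])
) (.node (.leaf [])
 (.leaf [nat_lit 2,nat_lit 12,nat_lit 2,nat_lit 12])
)) (.node (.node (.leaf [])
 (.leaf [])
) (.node (.leaf [])
 (.leaf [nat_lit 4,nat_lit 12,nat_lit 4,nat_lit 12])
)))) (.node (.node (.node (.node (.node (.leaf [])
 (.leaf [])
) (.leaf [])
) (.node (.leaf [])
 (.leaf [])
)) (.node (.node (.node (.leaf [])
 (.leaf [])
) (.leaf [])
) (.node (.leaf [])
 (.leaf [])
))) (.node (.node (.node (.node (.leaf [])
 (.leaf [])
) (.leaf [])
) (.node (.leaf [])
 (.leaf [nat_lit 5,nat_lit 7,nat_lit 12,nat_lit 7,nat_lit 12])
)) (.node (.node (.leaf [])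
 (.leaf [])
) (.node (.leaf [])
 (.leaf [nat_lit 12])
)))) (Nat.beq r (nat_lit 2))) (.node (.node (.node (.node (.node (.leaf [])
 (.leaf [])
) (.leaf [])
) (.node (.leaf [])
 (.leaf [])
)) (.node (.node (.node (.leaf [])
 (.leaf [])
) (.leaf [])
) (.node (.leaf [])
 (.leaf [])
))) (.node (.node (.node (.node (.leaf [])
 (.leaf [])
) (.leaf [])
) (.node (.leaf [])
 (.leaf [nat_lit 12])
)) (.node (.node (.leaf [])
 (.leaf [])
) (.node (.leaf [])
 (.leaf [nat_lit 12,nat_lit 4,nat_lit 11,nat_lit 12,nat_lit 4,nat_lit 5,nat_lit 7,nat_lit 4,nat_lit 11,nat_lit 12])
)))) (Nat.beq r (nat_lit 1)))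

/-- Words for the normal closure. -/
noncomputable def nclo : LT :=
(.node (.node (.node (.node (.node (.leaf [nat_lit 7,nat_lit 13,nat_lit 16])
 (.leaf [nat_lit 2,nat_lit 13,nat_lit 17])
) (.leaf [nat_lit 7,nat_lit 13,nat_lit 15])
) (.node (.leaf [nat_lit 2,nat_lit 7,nat_lit 1,nat_lit 9])
 (.leaf [nat_lit 2,nat_lit 13,nat_lit 4,nat_lit 10,nat_lit 11,nat_lit 14])
)) (.node (.node (.node (.leaf [nat_lit 2,nat_lit 13,nat_lit 10,nat_lit 11])
 (.leaf [nat_lit 7,nat_lit 13])
) (.leaf [nat_lit 2,nat_lit 13,nat_lit 13,nat_lit 6])
) (.node (.leaf [nat_lit 2,nat_lit 7,nat_lit 11,nat_lit 8])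
 (.leaf [nat_lit 2,nat_lit 13,nat_lit 11])
))) (.node (.node (.node (.node (.leaf [nat_lit 7,nat_lit 13])
 (.leaf [nat_lit 7,nat_lit 13,nat_lit 15])
) (.leaf [nat_lit 7,nat_lit 13])
) (.node (.leaf [nat_lit 2,nat_lit 13,nat_lit 15,nat_lit 5])
 (.leaf [nat_lit 2,nat_lit 21,nat_lit 14])
)) (.node (.node (.leaf [nat_lit 2,nat_lit 13,nat_lit 11])
 (.leaf [nat_lit 2,nat_lit 7,nat_lit 6,nat_lit 14])
) (.node (.leaf [nat_lit 2,nat_lit 13,nat_lit 13])
 (.leaf [nat_lit 2,nat_lit 13])
))))
theorem maxL : ∀ K : Subgroup HH, genLt kL 12 ≤ K → K ≤ genLt kL 19 → K = genLt kL 12 ∨ K = genLt kL 19 :=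
  tabsL.maximal (by decide) (by decide) levL0.1 (E := Ec) (R := [1, 2, 4]) (by decide +kernel) (U := maxU) (V := maxV)
    (by decide +kernel)

theorem kinv : ∀ x < 19, kL x * kL (iL x) = 1 := tabsL.hinv_of_base (B := B) (base.mono le_top) (by decide +kernel)

instance simpleL : IsSimpleGroup LL :=
  tabsL.simple (finE_injOn 2457) (by decide) levL0.1 maxL (B := B) (base.mono le_top) kinv cardPL
    (q := 13) (x := [7, 15, 12, 0, 16]) (D := nclo) (by decide +kernel)

/-- The images of the letters in the cyclic group of order three. -/
def chiL (x : ℕ) : Multiplicative (ZMod 3) := Multiplicative.ofAdd (if x = 7 then 1 else if x = 8 then 2 else 0)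

theorem exChi : ∃ χ : HH →* Multiplicative (ZMod 3), ∀ x < 9, χ (g0 x) = chiL x :=
  wq_hom RH_lt fun i => of_decide_eq_true
    (LT.all_get (show RH.all (fun w => decide (evalW chiL w = 1)) = true by decide +kernel) i)

/-- The homomorphism onto the cyclic group of order three. -/
noncomputable def chi : HH →* Multiplicative (ZMod 3) := exChi.choose

theorem chi_t : chi (g0 7) = Multiplicative.ofAdd 1 := exChi.choose_spec 7 (by decide)

theorem LL_ker : LL = chi.ker := by
  have h1 : LL ≤ chi.ker := by
    rw [LL_eq]
    refine genLt_le fun x hx => (exChi.choose_spec x (by omega)).trans ?_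
    interval_cases x <;> rfl
  have h2 : LL.index = 3 := by
    have := LL.index_mul_card
    rw [cardL, cardH] at this
    exact Nat.eq_of_mul_eq_mul_right (by decide) (this.trans (by decide))
  have h3 := Subgroup.relIndex_mul_index h1
  rcases (Nat.dvd_prime Nat.prime_three).1 (h2 ▸ Subgroup.index_dvd_of_le h1) with h4 | h4
  · have h5 : g0 7 ∈ chi.ker := Subgroup.index_eq_one.1 h4 ▸ Subgroup.mem_top _
    exact absurd (chi_t.symm.trans h5) (by decide)
  · rw [h4, h2] at h3
    exact le_antisymm h1 (Subgroup.relIndex_eq_one.1 (by omega))

instance normalL : LL.Normal := LL_ker ▸ inferInstance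

theorem eq_one_of_comm {y : HH} (h : ∀ l ∈ LL, l * y = y * l) : y = 1 := by
  obtain ⟨p, hp, h1⟩ := tabs.smul_mem (a := y) (top ▸ Subgroup.mem_top _) (show 0 < 2457 by decide)
  have h2 := allRange_zero
    (show allRange 0 2457 (fun p => bor (Nat.beq p 0) (!fixR T 326 12 p)) = true by decide +kernel) p hp
  have h3 : fixR T 326 12 p = true := (allLt_iff _ _).2 fun x hx => (nbeq_iff _ _).2 (by
    have h4 := tabsL x (by omega) p hp
    refine (finE_injOn 2457) h4.1 hp ?_
    have h5 : kL x • (finE 2457) 0 = (finE 2457) 0 := (levL0.1.stab.ge (mem_genLt kL hx)).2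
    rw [← h4.2, ← h1, smul_smul, h _ (mem_genLt kL (by omega)), mul_smul, h5])
  rw [h3, bor_iff, nbeq_iff] at h2
  obtain rfl := h2.resolve_right (by decide)
  refine base y trivial fun b hb => ?_
  obtain ⟨l, hl⟩ := tabsL.mem_orbit_of_level (finE_injOn 2457) (by decide) levL0.1 ((lettersLt_iff _ _).1 ctx.baselt b hb)
  have h4 : (l : HH) • (finE 2457) 0 = (finE 2457) b := hl
  rw [← h4, smul_smul, ← h _ l.2, mul_smul, h1]

/-- The normal subgroups of `HH`. -/
theorem normal_cases (N : Subgroup HH) [hN : N.Normal] : N = ⊥ ∨ LL ≤ N := by
  rcases IsSimpleGroup.eq_bot_or_eq_top_of_normal (N.subgroupOf LL) inferInstance with h | h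
  · refine Or.inl (eq_bot_iff.2 fun y hy => eq_one_of_comm fun l hl => ?_)
    rw [Subgroup.subgroupOf_eq_bot] at h
    exact (Subgroup.commute_of_normal_of_disjoint N LL hN normalL h y l hy hl).eq.symm
  · exact Or.inr (Subgroup.subgroupOf_eq_top.1 h)

end Cfsg.Agent.Spor.MTh
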