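import Mathlib
import Cfsg.Agent.Spor.Th.F3
import Cfsg.Agent.Chev.Good
import Cfsg.Agent.Chev.RootElem

/-!
# Root elements of E₈(3) as row operations on packed matrices
-/

set_option autoImplicit false
set_option exponentiation.threshold 100000
set_option Elab.async false

namespace Cfsg.Agent.Spor.ThE

open Cfsg.Lie Cfsg.Lie.ChevalleyDatum Cfsg.Agent.Spor Cfsg.Agent.Spor.NM Cfsg.Agent.Spor.NM.F3x248 Finset

section tr

variable (D : ChevalleyDatum)

/-- The entries of `x_r(t) - 1`: row, column, coefficient, power of `t`. -/
def tr (r : ℕ) : List (ℕ × ℕ × ℤ × ℕ) :=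
  (List.range D.rank).map (fun i => (D.rank + r, i, -D.cartan i r, 1)) ++
    ((List.range D.rank).map (fun i => (i, D.rank + D.neg r, D.co r i, 1)) ++
      (D.rank + r, D.rank + D.neg r, -1, 2) :: (D.chain.getD r #[]).toList.flatMap fun e =>
        e.2.toList.zipIdx.map fun q => (D.rank + q.1.1, D.rank + e.1, q.1.2, q.2 + 1))

/-- The number of a coordinate. -/
def ps : D.Idx → ℕ := Sum.elim (fun i => i) fun u => D.rank + u

theorem sum_chain {F : Type*} [Field F] (r : ℕ) (t : F) (u s : ℕ) :
    (((D.chain.getD r #[]).toList.flatMap fun e => e.2.toList.zipIdx.map fun q =>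
      if q.1.1 = u ∧ e.1 = s then (q.1.2 : F) * t ^ (q.2 + 1) else 0)).sum =
      ((D.chainCoeff r s u).map fun km => (km.2 : F) * t ^ km.1).sum := by
  unfold chainCoeff
  induction (D.chain.getD r #[]).toList with
  | nil => rfl
  | cons e l ih =>
    rw [List.flatMap_cons, List.sum_append, ih, List.filter_cons]
    by_cases h : e.1 = s
    · simp only [h, and_true, decide_true, if_true, List.flatMap_cons, List.map_append, List.sum_append, List.map_map]
      congr 1
      induction e.2.toList.zipIdx with
      | nil => rfl
      | cons q l ih => by_cases h' : q.1.1 = u <;> simp [h', ih]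
    · simp [h]

theorem xMat_eq {F : Type*} [Field F] (r : D.Rt) (t : F) (h1 : D.neg r ≠ r)
    (h2 : ∀ e ∈ (D.chain.getD r #[]).toList, e.1 ≠ r ∧ e.1 ≠ D.neg r) (a b : D.Idx) :
    D.xMat F r t a b = (if a = b then 1 else 0) + ((tr D r).map fun q =>
      if q.1 = ps D a ∧ q.2.1 = ps D b then (q.2.2.1 : F) * t ^ q.2.2.2 else 0).sum := by
  have h3 : ∀ (i : D.Nd) (k : ℕ), D.rank + k ≠ i := fun i k => by have := i.2; omega
  have h4 : ∀ f : ℕ → F, ((List.range D.rank).map f).sum = ∑ i : D.Nd, f i := fun f => by
    rw [← Finset.sum_range]; rfl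
  have h5 : ∀ s u : ℕ, s = r ∨ s = D.neg r → D.chainCoeff r s u = [] := fun s u h => by
    rw [chainCoeff, List.filter_eq_nil_iff.2 fun e he => by have := h2 e he; simp; omega]; rfl
  simp only [tr, List.map_append, List.map_cons, List.sum_append, List.sum_cons, List.map_map, Function.comp_def,
    List.map_flatMap, h4]
  rcases a with i' | u <;> rcases b with i | s <;> simp only [ps, Sum.elim_inl, Sum.elim_inr, h3, (h3 _ _).symm,
    false_and, and_false, if_false, add_right_inj, sum_chain, Fin.val_inj]
  · simp [xMat, List.sum_eq_zero]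
  · by_cases e : D.neg r = s
    · have : s ≠ r := fun e' => h1 (e' ▸ e)
      simp [xMat, List.sum_eq_zero, this, ← e, neg, co]
    · have : ¬ (s : ℕ) = D.negIdx.getD r 0 := fun e' => e e'.symm
      simp only [xMat, Matrix.of_apply, this, e]
      simp [List.sum_eq_zero]
  · by_cases e : r = u <;> simp [xMat, List.sum_eq_zero, e, eq_comm, cartan]
  · by_cases e : s = r
    · simp [xMat, e, h1, h5]
    by_cases e' : D.neg r = s
    · have : (s : ℕ) = D.negIdx.getD r 0 := e'.symm
      simp only [xMat, Matrix.of_apply, if_neg e, if_pos this, h5 s u (Or.inr e'.symm), e']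
      by_cases e1 : u = s
      · simp [e1, Ne.symm e]
      · by_cases e2 : r = u <;> simp [e1, e2, eq_comm]
    · have : ¬ (s : ℕ) = D.negIdx.getD r 0 := fun e1 => e' e1.symm
      simp only [xMat, Matrix.of_apply, if_neg e, if_neg this, e']
      simp

end tr

/-- Numbering of the coordinates. -/
def e8 : chevE8.Idx ≃ Fin 248 := (finSumFinEquiv : Fin 8 ⊕ Fin 240 ≃ Fin (8 + 240))

theorem coe_e8 (a : chevE8.Idx) : (e8 a : ℕ) = ps chevE8 a := by rcases a with i | u <;> rfl

/-- Add multiples of rows of `B`. -/
noncomputable def rop (c : ℤ × ℕ → ℕ) (R B : ℕ) (L : List (ℕ × ℕ × ℤ × ℕ)) : ℕ :=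
  List.rec B (fun q _ ih => force ih fun s => force (c q.2.2) fun k => cond (Nat.beq k 0) s
    (Nat.add s (Nat.shiftLeft (Nat.mul (Nat.land (Nat.shiftRight B (Nat.mul 2480 q.2.1)) R) k) (Nat.mul 2480 q.1)))) L

theorem shift_row (g : ℕ → ℕ) {i : ℕ} (hi : i < 248) : pk 10 g 248 <<< (2480 * i) =
    pk 10 (fun t => if i = t / 248 then g (t % 248) else 0) (248 * 248) := by
  rw [pk_flat, sum_eq_single i (fun j _ h => sum_eq_zero fun k hk => by
    rw [idx_div (mem_range.1 hk), if_neg h.symm, zero_mul]) (by simp [hi]), Nat.shiftLeft_eq, pk, sum_mul]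
  exact sum_congr rfl fun k hk => by
    rw [idx_div (mem_range.1 hk), idx_mod (mem_range.1 hk), if_pos rfl, mul_assoc, ← pow_add]; congr 2; ring

theorem rop_eq (c : ℤ × ℕ → ℕ) {B : ℕ} (hB : B < 2 ^ (10 * (248 * 248))) {L : List (ℕ × ℕ × ℤ × ℕ)}
    (hL : ∀ q ∈ L, q.1 < 248) : rop c (2 ^ (10 * 248) - 1) B L = pk 10 (fun t => fld 10 B t + (L.map fun q =>
      if q.1 = t / 248 then fld 10 B (248 * q.2.1 + t % 248) * c q.2.2 else 0).sum) (248 * 248) := by
  induction L with
  | nil => simpa [rop] using (pk_fld (by norm_num) hB).symm
  | cons q L ih =>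
    have e : rop c (2 ^ (10 * 248) - 1) B (q :: L) = rop c (2 ^ (10 * 248) - 1) B L +
        (((B >>> (10 * 248 * q.2.1)) &&& (2 ^ (10 * 248) - 1)) * c q.2.2) <<< (2480 * q.1) := by
      change force _ (fun s => force (c q.2.2) fun k => cond (Nat.beq k 0) s _) = _
      rw [force_eq, force_eq]
      cases h : Nat.beq (c q.2.2) 0 with
      | true => simp [Nat.eq_of_beq_eq_true h, rop]
      | false => rfl
    rw [e, ih fun q hq => hL q (List.mem_cons_of_mem _ hq), row_get (by norm_num), pk_mul_const,
      shift_row _ (hL q List.mem_cons_self), pk_add]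
    exact pk_congr fun t _ => by simp only [List.map_cons, List.sum_cons]; ring

/-- The code of a coefficient. -/
def cf (t : ℕ) (p : ℤ × ℕ) : ℕ := Int.toNat (Int.emod (Int.mul p.1 (Int.ofNat (Nat.pow t p.2))) 3)

theorem cf_lt (t : ℕ) (p : ℤ × ℕ) : cf t p < 3 := by
  change (_ % 3 : ℤ).toNat < 3
  omega

theorem cf_eq (t : ℕ) (p : ℤ × ℕ) : (cf t p : ZMod 3) = p.1 * (t : ZMod 3) ^ p.2 := by
  change (((p.1 * (t ^ p.2 : ℕ) % 3 : ℤ).toNat : ℕ) : ZMod 3) = _
  rw [← Int.cast_natCast, Int.toNat_of_nonneg (Int.emod_nonneg _ (by norm_num))]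
  exact (ZMod.intCast_mod _ 3).trans (by push_cast; rfl)

/-- Cartan integers and coroots, packed. -/
def cz (j : ℕ) : ℤ := Int.subNatNat (Nat.land (Nat.shiftRight (nat_lit 0xabcdecba788888889bcdecba978888889acdecba897888889abdecba889788889abcecba888978889abcdcba888897789abcdbba888889779abcdcaa888887989abcdbaa888879979abccbaa888798879abbcbaa887988879aabcbaa8798888799abcbaa7988888789abcbaa988888879abcdbb9888888799abcdba9888878999abccba9888797899abbcba9887987899aabcba98798878999abcba97988878989abcba9988887899abccaa9888789889abbcaa9887979889aabcaa98798798899abcaa97988798889abcaa9988879889abbbaa9887898789aabbaa98797987899abbaa97987987889abbaa9988798789aaabaa98789887899aabaa97979887889aabaa998798878999abaa978988878899abaa997988878889abaa9898888789abbba99887888989aabba998797889899abba997987889889abba99988788989aaaba998789789899aaba997979789889aaba9998797898999aba9978987898899aba9997987898889aba99898878989aaaaa998788978899aaaa997978978889aaaa9998789788999aaa9978979788899aaa9997979788889aaa99898797889999aa99788987888999aa99978987888899aa99897987888889aa99889887889aaaa99987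88898799aaa9997978898789aaa99998788987999aa99978978987899aa99997978987889aa999898789879999a999788979878999a999978979878899a999897979878889a999889879879999999978889877899999999788987788999999897898778889999988979877888899998889887799999989788888978999998997888897889999898978889788899989889788978888998988897897888889898888978788888889888889869aaaa9988788888999aaa9987978888989aaa99898788889999aa99878978889899aa99897978889889aa998898788899999a998788978898999a998978978898899a998897978898889a998889878899999999878889779899999989788977988999998897897798889999888979779888899988889877999999898788889788999989897888978889998988978897888899898889789788888989888897978888888988888986899999988788887998999998897888799889999888978879988899988889787998888998888897799888889888888968999999888788879988999988897887998889998888978799888899888889779988888988888896998999988887887988889998888978798888899888889779888888988888896988899988888787988888998888897798888889888888969888899888888779888888988888896988888988888886988888878888888a7888888878888887a78888877888888997888888878888887a788888778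888879978888777888889897888888878888887a7888887788888799788887778888798978887777888898897888888878888887a77888877888887997788877788887989778877778887988977877777888988897788888878888887a878888778888879977888777888879897788777788879889778777778879888977777777889888897788888878888878a888887878888797988887787888798798887778788798879887777878798887987777787898888798888877788887899788877778887979978877777887987997877777787988799777777778988879978887677888789887887767788797988787776778798798877777677898879887887667788789888787766778797988877776677898798887876667787898888777666778979888877666677889888887888888878888878a888887878888798988887787888798798887778788798879887777878798887987777787798888797777778798888879888877778887889988877777887978998877777787987899877777777988789977777777988878998887677788789789887767778797978987776777798797897777677798879789887667778789878987766777797987897776677798798789876667777898878977666777979887897666677789888789888766778878898888776677879789888777667779878988777766779887898888766677878979888776667779797988777666779879798887666677789879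88776666779798798876666677898879888876567787889878877656777978987877765677987898788766567778979878776656779797987876665677898798788765567778898878776556779789887876655677897988787655567788988878887656678788889887765667797888987776566798788898876656677897889877665667979788987666566789878898876556677889789877655667978978987665566789797898765556678898789887654667788897887765466797889788766546678978978876554667889797887654466788898788876545677888898777654567978889877665456789788987765545678897898776544567888979877654356788889877765435578888889787654566788888897765456697888889766545668978888976554566889788897654456688897889765435668888977976543466888889787654355688888799765434568888799876542456888798887653245688798888764324568798888875432456798888886543245698888888) (Nat.mul 4 j)) 15) 8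

/-- Cheap look-up of the chains. -/
noncomputable def ch8 (r : ℕ) : List (ℕ × Array (ℕ × ℤ)) :=
  (List.rec (motive := fun _ => ℕ → Array (ℕ × Array (ℕ × ℤ))) (fun _ => #[])
    (fun a _ ih n => Nat.rec a (fun m _ => ih m) n) chevE8.chain.toList r).toList

theorem ch8_eq (r : ℕ) : (chevE8.chain.getD r #[]).toList = ch8 r := by
  rw [ch8, Array.getD_eq_getD_getElem?, ← Array.getElem?_toList]
  induction chevE8.chain.toList generalizing r with
  | nil => rfl
  | cons a l ih => cases r with
    | zero => rfl
    | succ r => exact ih r

/-- The list `tr chevE8 r` with cheap look-ups. -/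
noncomputable def tr8 (r : ℕ) : List (ℕ × ℕ × ℤ × ℕ) :=
  (List.range 8).map (fun i => (8 + r, i, cz (16 * r + i), 1)) ++
    ((List.range 8).map (fun i => (i, 247 - r, cz (16 * r + 8 + i), 1)) ++ (8 + r, 247 - r, -1, 2) ::
      (ch8 r).flatMap fun e => e.2.toList.zipIdx.map fun q => (8 + q.1.1, 8 + e.1, q.1.2, q.2 + 1))

/-- Left multiplication by a root element. -/
noncomputable def step (c B : ℕ) : ℕ :=
  force (Nat.div c 3) fun r => force (Nat.mod c 3) fun t => force cR fun R => red 61504 (rop (cf t) R B (tr8 r))

theorem tab1 : ∀ r < 240, chevE8.neg r = 239 - r ∧ ∀ i < 8, cz (16 * r + 8 + i) = chevE8.co r i := by decide +kernel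

theorem tab2 : ∀ i < 8, (List.range 240).map (fun r => -cz (16 * r + i)) = (chevE8.cartanSR.getD i #[]).toList := by
  decide +kernel

theorem tab3 : ∀ r < 240, (∀ e ∈ ch8 r, e.1 ≠ r ∧ e.1 ≠ 239 - r) ∧ (tr8 r).length = 73 ∧
    ∀ q ∈ tr8 r, q.1 < 248 ∧ q.2.1 < 248 := by decide +kernel

theorem tab (r : ℕ) (hr : r < 240) : chevE8.neg r ≠ r ∧
    (∀ e ∈ (chevE8.chain.getD r #[]).toList, e.1 ≠ r ∧ e.1 ≠ chevE8.neg r) ∧
    tr8 r = tr chevE8 r ∧ (tr8 r).length = 73 ∧ ∀ q ∈ tr8 r, q.1 < 248 ∧ q.2.1 < 248 := by
  obtain ⟨h1, h2⟩ := tab1 r hr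
  refine ⟨by omega, by rw [ch8_eq, h1]; exact (tab3 r hr).1, ?_, (tab3 r hr).2⟩
  rw [tr8, tr, ch8_eq, h1, show 247 - r = 8 + (239 - r) by omega]
  refine congrArg₂ _ (List.map_congr_left fun i hi => ?_) (congrArg₂ _ (List.map_congr_left fun i hi => ?_) rfl)
  · rw [cartan, Array.getD_eq_getD_getElem? (xs := chevE8.cartanSR.getD i #[]), ← Array.getElem?_toList,
      ← tab2 i (List.mem_range.1 hi)]
    simp [hr]; rfl
  · rw [h2 i (List.mem_range.1 hi)]; rfl

/-- The matrix of a code. -/
abbrev dc (B : ℕ) : Matrix chevE8.Idx chevE8.Idx (ZMod 3) := dec e8 10 (fun x => (x : ZMod 3)) B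

theorem step_spec {c B : ℕ} (hc : c < 720) (hB : Ent 10 (248 * 248) (· < 3) B) :
    Ent 10 (248 * 248) (· < 3) (step c B) ∧
      dc (step c B) = (chevE8.X (ZMod 3) (c / 3) (c % 3 : ℕ) : GL _ (ZMod 3)) * dc B := by
  have hr : c / 3 < 240 := by omega
  obtain ⟨h1, h2, h0, h3, h4⟩ := tab _ hr
  have hR : cR = 2 ^ (10 * 248) - 1 := by decide +kernel
  have e0 : step c B = red (248 * 248) (rop (cf (c % 3)) cR B (tr chevE8 (c / 3))) := by
    rw [step, force_eq, force_eq, force_eq, ← h0]; rfl
  rw [h0] at h3 h4
  have e : step c B = _ := e0.trans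
    (by
      rw [hR, rop_eq _ hB.1 fun q hq => (h4 q hq).1, hred _ _ fun t ht => ?_]
      refine (add_le_add (hB.2 t ht).le (List.sum_le_card_nsmul _ 9 fun x hx => ?_)).trans_lt (by simp [h3])
      obtain ⟨q, hq, rfl⟩ := List.mem_map.1 hx
      split_ifs
      exacts [Nat.mul_le_mul (hB.2 _ (idx_lt (h4 q hq).2 (Nat.mod_lt _ (by norm_num)))).le (cf_lt _ _).le, by omega])
  have h5 : ∀ x, x % 3 < 2 ^ 10 := fun x => by omega
  refine ⟨e ▸ ent_pk (fun t _ => h5 _) fun t _ => Nat.mod_lt _ (by norm_num), Matrix.ext fun a b => ?_⟩
  rw [dc, dec, Matrix.of_apply, e, fld_pk (fun t _ => h5 _) (idx_lt (e8 a).2 (e8 b).2), idx_div (e8 b).2,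
    idx_mod (e8 b).2, ZMod.natCast_mod, Matrix.mul_apply, coe_X, x,
    dif_pos (show c / 3 < chevE8.nroots from hr)]
  simp only [xMat_eq chevE8 ⟨_, hr⟩ _ h1 h2, add_mul, sum_add_distrib, ite_mul, one_mul, zero_mul, sum_ite_eq,
    mem_univ, if_true, Nat.cast_add, dc, dec, Matrix.of_apply, ← coe_e8]
  refine congrArg₂ (· + ·) rfl ?_
  clear h0 h1 h2 h3 e0 e hR
  generalize tr chevE8 (c / 3) = L at h4
  induction L with
  | nil => simp
  | cons q L ih =>
    simp only [List.map_cons, List.sum_cons, add_mul, sum_add_distrib, Nat.cast_add,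
      ih fun q hq => h4 q (List.mem_cons_of_mem _ hq)]
    refine congrArg₂ (· + ·) ?_ rfl
    rw [sum_eq_single (e8.symm ⟨_, (h4 q List.mem_cons_self).2⟩) (fun k _ hk => by
      rw [if_neg fun h => hk (by rw [Equiv.eq_symm_apply]; exact Fin.ext h.2.symm), zero_mul]) (by simp)]
    by_cases h : q.1 = e8 a <;> simp [h, cf_eq, mul_comm]

/-- Left multiplication by the letters of a word, the first letter first. -/
noncomputable def run (w : List ℕ) : ℕ → ℕ := List.rec (fun B => B) (fun c _ ih B => force (step c B) ih) w

theorem run_spec {w : List ℕ} (hw : lettersLt 720 w = true) {B : ℕ} (hB : Ent 10 (248 * 248) (· < 3) B) :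
    ∃ g ∈ chevE8.group (ZMod 3), dc (run w B) = g * dc B := by
  induction w generalizing B with
  | nil => exact ⟨1, one_mem _, by simp [run]⟩
  | cons c w ih =>
    have h1 := (lettersLt_iff _ _).1 hw
    obtain ⟨h2, h3⟩ := step_spec (h1 c (by simp)) hB
    obtain ⟨g, hg, h4⟩ := ih ((lettersLt_iff _ _).2 fun y hy => h1 y (by simp [hy])) h2
    exact ⟨_, mul_mem hg (chevE8.X_mem_group _ _ _), h4.trans (by rw [h3, Units.val_mul, mul_assoc])⟩

end Cfsg.Agent.Spor.ThE
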